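import Cfsg.Agent.S5787
import Cfsg.Agent.S5788
import Cfsg.Agent.H753.ResCard
import Cfsg.Agent.H262.ElSympMiss
import Cfsg.Agent.H262.ElSympU
import Cfsg.Agent.H81.CycSInd
import Cfsg.Agent.H905.SLProper

/-!
# S3691, `Ω_7(q)`: subgroups of `Sp_4(q)` with a primitive prime of order 4 (helper909)

`core` : `H ≤ Sp_4(F)`, `|F| = p ^ f ≥ 31` odd, `r` a prime of order `4 f` dividing `|H|` : the `p`-part of `|H|` is at
most `p ^ (2 f)`, or `H = Sp_4(F)`.
-/

set_option autoImplicit false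

namespace Cfsg.Agent.H909.Om7

open Cfsg Cfsg.Geo Cfsg.Agent.H262.El Cfsg.Agent.H884.El
open scoped MatrixGroups

/-- the numbers of the extension field class -/
theorem not_dvd_ext {p f q : ℕ} (hp : p.Prime) (hp2 : p ≠ 2) (hf : 1 ≤ f) (hq : q = p ^ f) :
    ¬ p ^ (2 * f + 1) ∣ 2 * q ^ 2 * (q ^ 4 - 1) := by
  intro h
  have h1 : 2 * q ^ 2 * (q ^ 4 - 1) = p ^ (2 * f) * (2 * (q ^ 4 - 1)) := by
    rw [hq, ← pow_mul, mul_comm f 2]; ring
  rw [h1, pow_succ, Nat.mul_dvd_mul_iff_left (pow_pos hp.pos _)] at h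
  rcases (Nat.Prime.dvd_mul hp).1 h with h2 | h2
  · exact hp2 ((Nat.prime_dvd_prime_iff_eq hp Nat.prime_two).1 h2)
  · have h3 : p ∣ q ^ 4 := by rw [hq, ← pow_mul]; exact dvd_pow_self _ (by omega)
    have h4 : 1 ≤ q ^ 4 := Nat.one_le_pow _ _ (by rw [hq]; exact pow_pos hp.pos _)
    have h5 : p ∣ 1 := by
      have := Nat.dvd_sub h3 h2
      rwa [Nat.sub_sub_self h4] at this
    exact hp.one_lt.ne' (Nat.dvd_one.1 h5)

/-- the numbers of `PSL_2(q)` -/
theorem not_dvd_psl {p f q : ℕ} (hp : p.Prime) (hp2 : p ≠ 2) (hf : 1 ≤ f) (hq : q = p ^ f) :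
    ¬ p ^ (2 * f + 1) ∣ 2 * f * (q * (q ^ 2 - 1)) := by
  intro h
  have h1 : 2 * f * (q * (q ^ 2 - 1)) = p ^ f * (2 * (f * (q ^ 2 - 1))) := by rw [hq]; ring
  rw [h1, show 2 * f + 1 = f + (f + 1) by ring, pow_add, Nat.mul_dvd_mul_iff_left (pow_pos hp.pos _)] at h
  have c2 : Nat.Coprime (p ^ (f + 1)) 2 := Nat.Coprime.pow_left _ ((Nat.coprime_primes hp Nat.prime_two).2 hp2)
  have c3 : Nat.Coprime (p ^ (f + 1)) (q ^ 2 - 1) := by
    refine Nat.Coprime.pow_left _ ((Nat.Prime.coprime_iff_not_dvd hp).2 fun h2 => ?_)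
    have h3 : p ∣ q ^ 2 := by rw [hq, ← pow_mul]; exact dvd_pow_self _ (by omega)
    have h4 : 1 ≤ q ^ 2 := Nat.one_le_pow _ _ (by rw [hq]; exact pow_pos hp.pos _)
    have h5 : p ∣ 1 := by
      have := Nat.dvd_sub h3 h2
      rwa [Nat.sub_sub_self h4] at this
    exact hp.one_lt.ne' (Nat.dvd_one.1 h5)
  have h2 := c3.dvd_of_dvd_mul_right (c2.dvd_of_dvd_mul_left h)
  have h3 := Nat.le_of_dvd (by omega) h2
  have h4 : f + 1 < p ^ (f + 1) := Nat.lt_pow_self hp.one_lt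
  omega

/-- **The subgroups of `Sp_4(q)` with a primitive prime of order 4.** -/
theorem core {F : Type} [Field F] [Fintype F] {p f r a : ℕ} (hp : p.Prime) (hp2 : p ≠ 2) (hf : 1 ≤ f)
    (hF : Nat.card F = p ^ f) (h31 : 31 ≤ p ^ f) {H : Subgroup (GL (Fin 2 ⊕ Fin 2) F)} (hH : H ≤ spGL 2 F)
    (hr : PP p (f * 4) r) (hb : 9 < r ^ a) (hd : r ^ a ∣ Nat.card H) :
    (Nat.card H).factorization p ≤ 2 * f ∨ spGL 2 F ≤ H := by
  have hfin : Finite (GL (Fin 2 ⊕ Fin 2) F) := inferInstance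
  rw [or_iff_not_imp_right]
  intro hn
  obtain ⟨M, hM, hHM⟩ := H905.exists_isMaximalIn_of_lt (lt_of_le_not_ge hH hn)
  by_contra hv
  push Not at hv
  have hF' : Fintype.card F = p ^ f := by rw [← Nat.card_eq_fintype_card]; exact hF
  have hodd : Odd (Fintype.card F) := by rw [hF']; exact (hp.odd_of_ne_two hp2).pow
  have hpH : p ^ (2 * f + 1) ∣ Nat.card H := (Nat.Prime.pow_dvd_iff_le_factorization hp Nat.card_pos.ne').2 hv
  have ha : a ≠ 0 := by rintro rfl; norm_num at hb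
  have hrH : r ∣ Nat.card H := (dvd_pow_self r ha).trans hd
  have hpM : p ^ (2 * f + 1) ∣ Nat.card M := hpH.trans (Subgroup.card_dvd_of_le hHM)
  have hrM : r ∣ Nat.card M := hrH.trans (Subgroup.card_dvd_of_le hHM)
  have hppd : Cfsg.Agent.H163.PG.Ppd p (f * (2 * 2)) r := ⟨hr.prime, hr.ord⟩
  have hPP : PP (Nat.card F) (2 * 2) r := by rw [hF]; exact PP.of_pow hr hf
  obtain ⟨k1, k2, k3, -⟩ := not_le_of_irr (m := 2) le_rfl hp hf hF' hppd hrM
  have hp1 : p ∣ Nat.card M := (dvd_pow_self p (by omega)).trans hpM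
  rcases S5787.result hodd M hM with ⟨W, hW0, hW, rfl⟩ | ⟨D, hD, rfl⟩ | ⟨-, D, hD, -, rfl⟩ | ⟨K, hK, hsa, halt, rfl⟩ |
    ⟨-, K, hK, -, hns, rfl⟩ | ⟨F₀, s, P, ζ, hs, hc, -, -, rfl⟩ | ⟨p', R, hp', hFp, hR, habs, -, h32, hZ, -, rfl⟩ | hres
  · exact k1 W hW0 (totallySingular_ne_top (by norm_num) hW) inf_le_left
  · exact k2 _ _ D hD.1 inf_le_left
  · exact k2 _ _ D hD inf_le_left
  · exact not_dvd_ext hp hp2 hf hF' (hpM.trans (H81.CycS.card_field' hK hsa halt))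
  · apply hns
    have := Fact.mk hr.prime
    obtain ⟨g, hg⟩ := exists_prime_orderOf_dvd_card' r hrM
    refine selfAdjoint_of_irr (m := 2) (by decide) (by norm_num) (g := (g : GL (Fin 2 ⊕ Fin 2) F)) g.2.2 hPP ?_ ?_ hK g.2.1
    · rw [← Subgroup.coe_pow, ← hg, pow_orderOf_eq_one]; rfl
    · intro h1
      have hg2 : g = 1 := Subtype.ext h1
      rw [hg2, orderOf_one] at hg
      exact hr.prime.one_lt.ne hg
  · exact k3 F₀ s P hs hc inf_le_left
  · have h1 := symp_prime (m := 2) (k := 2) (by norm_num) inf_le_left habs hR (by norm_num) (by simp) hZ hp hp1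
    have hq : 31 ≤ p := by
      have h2 : p ∣ p' := by
        rw [← hFp, hF']; exact dvd_pow_self _ (by omega)
      have h3 := (Nat.prime_dvd_prime_iff_eq hp hp').1 h2
      rw [← hF', hFp, ← h3] at h31
      exact h31
    rcases h1 with h1 | h1 | h1
    · exact hp2 h1
    · have h2 : p ∣ Nat.card F := by rw [hF]; exact dvd_pow_self _ (by omega)
      have h4 : 1 ≤ Nat.card F := Nat.card_pos
      have h5 : p ∣ 1 := by
        have := Nat.dvd_sub h2 h1
        rwa [Nat.sub_sub_self h4] at this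
      exact hp.one_lt.ne' (Nat.dvd_one.1 h5)
    · omega
  · obtain ⟨P, p', hP, hp', hch, h⟩ := S5788.result hodd M hM hres
    have hpp : p = p' := by
      have h1 : CharP F p := by
        have := hch
        have h2 : p' ∣ p ^ f := by
          rw [← hF', ← CharP.cast_eq_zero_iff F p', Nat.cast_card_eq_zero]
        have h3 := (Nat.prime_dvd_prime_iff_eq hp' hp).1 (hp'.dvd_of_dvd_pow h2)
        rwa [← h3]
      exact CharP.eq F h1 hch
    have hle := hM.1.le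
    rcases h with ⟨⟨e⟩, hFp, -, -⟩ | ⟨-, h7⟩ | ⟨⟨e⟩, -, -⟩
    · have h1 := hp1.trans (H753.ResCard.card_A6 hle hP e)
      have hq : 31 ≤ p := by
        rw [← hF', hFp, ← hpp] at h31
        exact h31
      have h2 : p ∣ 2 ^ 6 * (3 ^ 2 * 5) := h1
      rcases (Nat.Prime.dvd_mul hp).1 h2 with h3 | h3
      · have := Nat.le_of_dvd (by norm_num) (hp.dvd_of_dvd_pow h3)
        omega
      · rcases (Nat.Prime.dvd_mul hp).1 h3 with h3 | h3
        · have := Nat.le_of_dvd (by norm_num) (hp.dvd_of_dvd_pow h3)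
          omega
        · have := Nat.le_of_dvd (by norm_num) h3
          omega
    · omega
    · refine not_dvd_psl (q := Nat.card F) hp hp2 hf hF (hpM.trans ?_)
      exact H753.ResCard.card_L2 hp hF' hodd (by omega) hle hP e

end Cfsg.Agent.H909.Om7
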