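import Cfsg.Agent.H909.Om7.SpFour
import Cfsg.Agent.S0246
import Cfsg.Agent.GenOrth.Normal
import Cfsg.Agent.LieClassical.OmegaFive
import Cfsg.Agent.LieClassical.OrthFinite
import Cfsg.Agent.H955.Sp

/-!
# S3691, `Ω_7(q)`: box B5 (helper909)

`dim_five` : subgroups of a 5-dimensional orthogonal group with a primitive prime of order 4.
-/

set_option autoImplicit false

namespace Cfsg.Agent.H909.Om7

open Module QuadraticMap Cfsg Cfsg.Geo Cfsg.Agent.LieClassical.OrthCore Cfsg.Agent.H884.El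
open Cfsg.Agent.LieClassical.OrthFinite (glEquiv glEquiv_apply mem_isometryGroup_iff)
open Cfsg.Agent.LieClassical.CliffordFive Cfsg.Agent.LieClassical.OmegaFive
open Cfsg.Agent.H876 (spToGL)
open Cfsg.Agent.H931 (spToGL_mem)
open Cfsg.Agent.H262.El (spToGL_injective)
open scoped MatrixGroups Matrix

/-- the order of the preimage of a subgroup -/
theorem card_comap {G H : Type*} [Group G] [Group H] (φ : G →* H) (K : Subgroup H) :
    Nat.card (K.comap φ) = Nat.card φ.ker * Nat.card (K ⊓ φ.range : Subgroup H) := by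
  have h1 : (K.comap φ).map φ = K ⊓ φ.range := by rw [Subgroup.map_comap_eq, inf_comm]
  have h2 := Subgroup.relIndex_mul_relIndex (⊥ : Subgroup G) φ.ker (K.comap φ) bot_le (Subgroup.ker_le_comap φ K)
  rw [Subgroup.relIndex_bot_left, Subgroup.relIndex_bot_left, Subgroup.relIndex_ker, h1] at h2
  exact h2.symm

section Five

variable {F : Type} [Field F] [Fintype F]

omit [Fintype F] in
theorem sq_mem (h2 : (2 : F) ≠ 0) (g : isometryGroup F (quadFormOdd 2 F)) :
    g ^ 2 ∈ commutator (isometryGroup F (quadFormOdd 2 F)) := by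
  rw [← Abelianization.ker_of, MonoidHom.mem_ker, map_pow]
  refine O_induction h2 (fun g => Abelianization.of g ^ 2 = 1) (by simp) ?_ g
  intro v hv g hg
  rw [map_mul, mul_pow, hg, mul_one, _root_.sq, ← map_mul, rf_mul_self, map_one]

theorem card_eq_inf (h2 : (2 : F) ≠ 0) (Γ : Subgroup (isometryGroup F (quadFormOdd 2 F))) :
    ∃ n, Nat.card Γ = 2 ^ n * Nat.card (Γ ⊓ (rho h2).range : Subgroup (isometryGroup F (quadFormOdd 2 F))) := by
  have h1 : IsPGroup 2 (isometryGroup F (quadFormOdd 2 F) ⧸ commutator (isometryGroup F (quadFormOdd 2 F))) := by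
    intro x
    obtain ⟨g, rfl⟩ := QuotientGroup.mk_surjective x
    refine ⟨1, ?_⟩
    rw [pow_one, ← QuotientGroup.mk_pow]
    exact (QuotientGroup.eq_one_iff _).2 (sq_mem h2 g)
  obtain ⟨n, hn⟩ := (IsPGroup.iff_card).1 h1
  have h3 : (commutator (isometryGroup F (quadFormOdd 2 F))).relIndex Γ ∣ 2 ^ n := by
    rw [← hn]
    exact Subgroup.relIndex_dvd_index_of_normal _ _
  obtain ⟨k, -, hk⟩ := (Nat.dvd_prime_pow Nat.prime_two).1 h3
  refine ⟨k, ?_⟩
  have h4 := Subgroup.relIndex_mul_relIndex (⊥ : Subgroup (isometryGroup F (quadFormOdd 2 F)))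
    (Γ ⊓ commutator (isometryGroup F (quadFormOdd 2 F))) Γ bot_le inf_le_left
  rw [Subgroup.relIndex_bot_left, Subgroup.relIndex_bot_left, inf_comm, Subgroup.inf_relIndex_right, hk, inf_comm] at h4
  rw [range_rho h2, ← h4, mul_comm]

theorem card_ker_rho (h2 : (2 : F) ≠ 0) : Nat.card (rho h2).ker ∣ 2 := by
  have h1 : (rho h2).ker ≤ Subgroup.center (Matrix.symplecticGroup (Fin 2) F) := by
    intro g hg
    refine mem_center_of_rho h2 g fun h => ?_
    rw [MonoidHom.mem_ker.1 hg, one_mul, mul_one]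
  have h3 := Subgroup.card_dvd_of_le h1
  rw [S0246.result rfl 2 (by norm_num)] at h3
  exact h3.trans (Nat.gcd_dvd_left _ _)

theorem two_ne {p f : ℕ} (hp : p.Prime) (hp2 : p ≠ 2) (hF : Nat.card F = p ^ f) : (2 : F) ≠ 0 := by
  intro h
  have hch : ringChar F = 2 := by
    have h3 : ringChar F ∣ 2 := ringChar.dvd (by exact_mod_cast h)
    rcases (Nat.dvd_prime Nat.prime_two).1 h3 with h4 | h4
    · exact absurd h4 (CharP.ringChar_ne_one)
    · exact h4
  have h5 := (FiniteField.even_card_iff_char_two (F := F)).1 hch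
  rw [← Nat.card_eq_fintype_card, hF] at h5
  exact hp2 ((Nat.prime_dvd_prime_iff_eq Nat.prime_two hp).1 (Nat.prime_two.dvd_of_dvd_pow (Nat.dvd_of_mod_eq_zero h5))).symm

/-- the standard form -/
theorem five_std {p f r a : ℕ} (hp : p.Prime) (hp2 : p ≠ 2) (hf : 1 ≤ f) (hF : Nat.card F = p ^ f) (h31 : 31 ≤ p ^ f)
    (Γ : Subgroup (isometryGroup F (quadFormOdd 2 F))) (hr : PP p (f * 4) r) (hb : 9 < r ^ a) (hd : r ^ a ∣ Nat.card Γ) :
    (Nat.card Γ).factorization p ≤ 2 * f ∨ 4 * f ≤ (Nat.card Γ).factorization p := by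
  have h2 := two_ne hp hp2 hF
  have hfin : Finite (GL (Fin 2 ⊕ Fin 2) F) := inferInstance
  have hfin' : Finite (GL (Unit ⊕ (Fin 2 ⊕ Fin 2)) F) := inferInstance
  obtain ⟨n, hn⟩ := card_eq_inf h2 Γ
  have hk := card_ker_rho h2
  have hc := card_comap (rho h2) Γ
  set K := Γ.comap (rho h2) with hK
  have hcK : Nat.card (K.map (spToGL 2 F)) = Nat.card K := Subgroup.card_map_of_injective spToGL_injective
  have hle : K.map (spToGL 2 F) ≤ spGL 2 F := by
    rintro _ ⟨A, -, rfl⟩
    exact spToGL_mem A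
  have hr2 : r ≠ 2 := by
    have := hr.lt (by omega)
    omega
  have hpart : (Nat.card (K.map (spToGL 2 F))).factorization p = (Nat.card Γ).factorization p := by
    have hm0 : Nat.card (Γ ⊓ (rho h2).range : Subgroup (isometryGroup F (quadFormOdd 2 F))) ≠ 0 := Nat.card_pos.ne'
    have hk0 : Nat.card (rho h2).ker ≠ 0 := by
      rintro h0
      rw [h0] at hk
      norm_num at hk
    rw [hcK, hc, hn, Nat.factorization_mul hk0 hm0, Nat.factorization_mul (pow_ne_zero _ two_ne_zero) hm0,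
      Finsupp.add_apply, Finsupp.add_apply, Nat.factorization_eq_zero_of_not_dvd (n := Nat.card (rho h2).ker),
      Nat.factorization_eq_zero_of_not_dvd (n := 2 ^ n)]
    · exact fun h => hp2 ((Nat.prime_dvd_prime_iff_eq hp Nat.prime_two).1 (hp.dvd_of_dvd_pow h))
    · exact fun h => hp2 ((Nat.prime_dvd_prime_iff_eq hp Nat.prime_two).1 (h.trans hk))
  have hdK : r ^ a ∣ Nat.card (K.map (spToGL 2 F)) := by
    rw [hcK, hc]
    rw [hn] at hd
    have hco : Nat.Coprime (r ^ a) (2 ^ n) := Nat.Coprime.pow _ _ ((Nat.coprime_primes hr.prime Nat.prime_two).2 hr2)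
    exact Dvd.dvd.mul_left (hco.dvd_of_dvd_mul_left hd) _
  rw [← hpart]
  rcases core hp hp2 hf hF h31 hle hr hb hdK with h | h
  · exact Or.inl h
  · right
    rw [le_antisymm hle h, H955.card_spGL, hF]
    have h4 : (p ^ f) ^ 2 ^ 2 = p ^ (4 * f) := by rw [← pow_mul, mul_comm]; norm_num
    refine (Nat.Prime.pow_dvd_iff_le_factorization hp ?_).1 ?_
    · have := Nat.card_pos (α := spGL 2 F)
      rw [H955.card_spGL, hF] at this
      exact this.ne'
    · rw [h4]
      exact dvd_mul_right _ _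

end Five

section

variable {F : Type} [Field F] [Fintype F] {V : Type} [AddCommGroup V] [Module F V] [FiniteDimensional F V] {Q : QuadraticForm F V}
  {p f : ℕ} {Γ : Subgroup (V ≃ₗ[F] V)}

/-- box B5 -/
theorem dim_five (hQ : Nondeg Q) (h5 : finrank F V = 5) (hp : p.Prime) (hp2 : p ≠ 2) (hf : 1 ≤ f)
    (hF : Nat.card F = p ^ f) (h31 : 31 ≤ p ^ f) (hΓ : Γ ≤ O Q) {r a : ℕ} (hr : PP p (f * 4) r) (hb : 9 < r ^ a)
    (hd : r ^ a ∣ Nat.card Γ) :
    (Nat.card Γ).factorization p ≤ 2 * f ∨ 4 * f ≤ (Nat.card Γ).factorization p := by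
  obtain ⟨c, hc, j, hj⟩ : GenOrth.Sim Q (quadFormOdd 2 F) := by
    rcases GenOrth.normal_form 5 hQ h5 with ⟨k, hk, hs⟩ | ⟨k, hk, hs⟩ | ⟨k, hk, a, b, hab, hs⟩
    · obtain rfl : k = 2 := by omega
      exact hs
    · omega
    · omega
  let ψ : (V ≃ₗ[F] V) →* (((Unit ⊕ (Fin 2 ⊕ Fin 2)) → F) ≃ₗ[F] ((Unit ⊕ (Fin 2 ⊕ Fin 2)) → F)) :=
    { toFun := fun g => (j.trans g).trans j.symm
      map_one' := by ext1 v; simp
      map_mul' := fun g h => by ext1 v; simp }
  have hψ : ∀ g v, ψ g v = j.symm (g (j v)) := fun g v => rfl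
  have hinj : Function.Injective ψ := by
    intro g h hgh
    ext1 v
    have h1 := congrArg (fun x => x (j.symm v)) hgh
    simpa [hψ] using h1
  let θ : (V ≃ₗ[F] V) →* GL (Unit ⊕ (Fin 2 ⊕ Fin 2)) F := (glEquiv _ F).symm.toMonoidHom.comp ψ
  have hθ : Function.Injective θ := (glEquiv _ F).symm.injective.comp hinj
  have hle : Γ.map θ ≤ isometryGroup F (quadFormOdd 2 F) := by
    rintro _ ⟨g, hg, rfl⟩
    rw [mem_isometryGroup_iff]
    intro v
    have h1 : ((θ g : GL (Unit ⊕ (Fin 2 ⊕ Fin 2)) F) : Matrix _ _ F).mulVec v = j.symm (g (j v)) := by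
      rw [← glEquiv_apply]
      show glEquiv _ F ((glEquiv _ F).symm (ψ g)) v = _
      rw [MulEquiv.apply_symm_apply, hψ]
    have h2 := hj (j.symm (g (j v)))
    rw [LinearEquiv.apply_symm_apply, (hΓ hg : ∀ v, Q (g v) = Q v), hj] at h2
    rw [h1]
    exact (mul_left_cancel₀ hc h2).symm
  have hcard : Nat.card ((Γ.map θ).subgroupOf (isometryGroup F (quadFormOdd 2 F))) = Nat.card Γ := by
    rw [← Subgroup.card_map_of_injective hθ, ← Subgroup.card_map_of_injective (isometryGroup F (quadFormOdd 2 F)).subtype_injective,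
      Subgroup.subgroupOf_map_subtype, inf_eq_left.2 hle]
  have := five_std hp hp2 hf hF h31 ((Γ.map θ).subgroupOf (isometryGroup F (quadFormOdd 2 F))) hr hb
    (by rw [hcard]; exact hd)
  rwa [hcard] at this

end

end Cfsg.Agent.H909.Om7
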