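import Cfsg.Agent.H430.Om7.KD
import Cfsg.Agent.H830.Rg.HexG

/-!
# S3691, `Ω_7(q)`, `q ≥ 31` odd: box K1 (helper909)

`KD.small` : `K` does not stabilise a nondegenerate subspace of dimension 1 or 2
-/

set_option autoImplicit false
set_option linter.unusedSectionVars false

namespace Cfsg.Agent.H909.Om7

open Module QuadraticMap Cfsg Cfsg.Geo Cfsg.Agent.LieClassical.OrthCore Cfsg.Agent.LieClassical.OrthTrans
  Cfsg.Agent.H884.El Cfsg.Agent.H955 Cfsg.Agent.H954.TSing Cfsg.Agent.H430.Om7
open Cfsg.Agent.H951 (fx cm Inv mem_fx)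

variable {F : Type} [Field F] [Fintype F] {V : Type} [AddCommGroup V] [Module F V] [FiniteDimensional F V]

theorem charP_of {p f : ℕ} (hp : p.Prime) (hf : 0 < f) (hc : Nat.card F = p ^ f) : CharP F p := by
  obtain ⟨c, hc'⟩ := CharP.exists F
  obtain ⟨n, hn, hn'⟩ := FiniteField.card F c
  rw [← Nat.card_eq_fintype_card, hc] at hn'
  have h6 : p ∣ c ^ (n : ℕ) := by rw [← hn']; exact dvd_pow_self p hf.ne'
  have h7 : p = c := (Nat.prime_dvd_prime_iff_eq hp hn).1 (hp.dvd_of_dvd_pow h6)
  rw [h7]; exact hc'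

/-- a `p`-group of isometries in dimension at most 2 is trivial -/
theorem eq_bot_of_le_two {p : ℕ} [hp : Fact p.Prime] [CharP F p] (h2 : (2 : F) ≠ 0) {Q : QuadraticForm F V} (hQ : Nondeg Q)
    (hd : finrank F V ≤ 2) {P : Subgroup (V ≃ₗ[F] V)} (hP : P ≤ O Q) (hpP : IsPGroup p P) : P = ⊥ := by
  rcases Cfsg.Agent.H830.Hex.exists_sing_fixed h2 hQ hP hpP with h | ⟨v, hv0, hv, hfix⟩
  · exact h
  obtain ⟨w, hw⟩ := hQ.exists_polar_eq hv0 1
  have h1 : finrank F (perp Q (Submodule.span F {v})) ≤ 1 := by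
    rw [finrank_perp hQ, finrank_span_singleton hv0]
    omega
  have h3 : Submodule.span F {v} = perp Q (Submodule.span F {v}) := by
    refine Submodule.eq_of_le_of_finrank_le ?_ (by rw [finrank_span_singleton hv0]; exact h1)
    rw [Submodule.span_singleton_le_iff_mem]
    intro x hx
    obtain ⟨c, rfl⟩ := Submodule.mem_span_singleton.1 hx
    rw [polar_smul_left, polar_self_of_sing hv, smul_zero]
  have key : ∀ z : V, polar Q v z = 0 → ∃ t : F, z = t • v := by
    intro z hz
    have h4 : z ∈ Submodule.span F {v} := by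
      rw [h3]
      intro x hx
      obtain ⟨c, rfl⟩ := Submodule.mem_span_singleton.1 hx
      rw [polar_smul_left, hz, smul_zero]
    obtain ⟨t, ht⟩ := Submodule.mem_span_singleton.1 h4
    exact ⟨t, ht.symm⟩
  rw [eq_bot_iff]
  intro g hg
  rw [Subgroup.mem_bot]
  have hgO := hP hg
  have hgv := hfix g hg
  have step : ∀ y : V, ∃ t : F, g y - y = t • v := by
    intro y
    apply key
    have h5 : polar Q v (g y) = polar Q v y := by
      nth_rewrite 1 [← hgv]
      exact polar_map hgO v y
    rw [polar_sub_right, h5, sub_self]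
  have hgw : g w = w := by
    obtain ⟨t, ht⟩ := step w
    have h5 : g w = w + t • v := by rw [← ht]; abel
    have h6 : Q (g w) = Q w := hgO w
    rw [h5, Q_add, QuadraticMap.map_smul, hv, polar_smul_right, polar_comm, hw] at h6
    have h7 : t = 0 := by
      simp only [smul_eq_mul] at h6
      linear_combination h6
    rw [h5, h7, zero_smul, add_zero]
  apply LinearEquiv.ext
  intro y
  obtain ⟨t, ht⟩ := step y
  have h5 : polar Q w (g y) = polar Q w y := by
    nth_rewrite 1 [← hgw]
    exact polar_map hgO w y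
  have h6 : polar Q w (g y - y) = 0 := by rw [polar_sub_right, h5, sub_self]
  rw [ht, polar_smul_right, polar_comm, hw, smul_eq_mul, mul_one] at h6
  have h7 : g y = y := by
    rw [h6, zero_smul] at ht
    exact sub_eq_zero.1 ht
  exact h7

end Cfsg.Agent.H909.Om7

namespace Cfsg.Agent.H430.Om7

open Module QuadraticMap Cfsg Cfsg.Geo Cfsg.Agent.LieClassical.OrthCore Cfsg.Agent.LieClassical.OrthTrans
  Cfsg.Agent.H884.El Cfsg.Agent.H955 Cfsg.Agent.H954.TSing
open Cfsg.Agent.H951 (fx cm Inv)

variable {F : Type} [Field F] [Fintype F] {V : Type} [AddCommGroup V] [Module F V] [FiniteDimensional F V]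
  {Q : QuadraticForm F V} {K : Subgroup (V ≃ₗ[F] V)} {p f r a : ℕ} {y : V ≃ₗ[F] V}

/-- K1 -/
theorem KD.small (D : KD Q K p f r a y) {S : Submodule F V} (hS : Nondeg (res Q S)) (h1 : finrank F S = 1 ∨ finrank F S = 2)
    (hK : ∀ g ∈ K, ∀ s ∈ S, g s ∈ S) : False := by
  have hp := D.prime
  have := Fact.mk hp
  have := Fact.mk D.pp.prime
  have hch : CharP F p := H909.Om7.charP_of hp D.pos D.card
  have hcompl : IsCompl S (perp Q S) := isCompl_perp hS
  have hKU := D.perp_inv hK
  have hKfin : Finite K := inferInstance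
  set φ := rs (perp Q S) K hKU with hφ
  set ρ := rs S K hK with hρ
  set N := φ.ker with hN
  -- an element of `N` trivial on `S` is trivial
  have htriv : ∀ g : K, g ∈ N → (∀ w ∈ S, (g : V ≃ₗ[F] V) w = w) → g = 1 := by
    intro g hg hgw
    have h1 : ∀ u ∈ perp Q S, (g : V ≃ₗ[F] V) u = u := (rs_eq_one hKU).1 hg
    apply Subtype.ext
    apply LinearEquiv.ext
    intro v
    have h2 : v ∈ S ⊔ perp Q S := by rw [hcompl.sup_eq_top]; trivial
    obtain ⟨w, hw, c, hc, rfl⟩ := Submodule.mem_sup.1 h2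
    rw [map_add, hgw w hw, h1 c hc]
    rfl
  -- `p` does not divide `|N|`
  have hpN : (Nat.card N).factorization p = 0 := by
    obtain ⟨P⟩ : Nonempty (Sylow p N) := inferInstance
    have h2 : Nat.card (P : Subgroup N) = p ^ (Nat.card N).factorization p := P.card_eq_multiplicity
    have h3 : ((P : Subgroup N).map (ρ.comp N.subtype)) = ⊥ := by
      refine H909.Om7.eq_bot_of_le_two D.two_ne hS (by omega) ?_ (P.isPGroup'.map _)
      rintro _ ⟨g, -, rfl⟩
      exact rs_range_le hK D.le ⟨_, rfl⟩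
    have h4 : (P : Subgroup N) = ⊥ := by
      rw [eq_bot_iff]
      intro g hg
      have h5 : (ρ.comp N.subtype) g ∈ ((P : Subgroup N).map (ρ.comp N.subtype)) := ⟨g, hg, rfl⟩
      rw [h3, Subgroup.mem_bot] at h5
      exact Subtype.ext (htriv g g.2 ((rs_eq_one hK).1 h5))
    rw [h4, Subgroup.card_bot] at h2
    by_contra hne
    exact (Nat.one_lt_pow hne hp.one_lt).ne h2
  -- `r` does not divide `|N|`
  have hrN : ¬ r ∣ Nat.card N := by
    intro hr
    obtain ⟨g, hg⟩ := exists_prime_orderOf_dvd_card' r hr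
    have h2 : ((g : K) : V ≃ₗ[F] V) ^ r = 1 := by
      have h3 : g ^ r = 1 := by rw [← hg, pow_orderOf_eq_one]
      have h4 := congrArg (fun x : N => ((x : K) : V ≃ₗ[F] V)) h3
      exact h4
    have h3 : ((g : K) : V ≃ₗ[F] V) ≠ 1 := by
      intro h4
      have h5 : g = 1 := Subtype.ext (Subtype.ext h4)
      rw [h5, orderOf_one] at hg
      exact D.pp.prime.one_lt.ne hg
    have h4 := (D.cmOf (g : K).2 h2 h3).1
    have h5 : cm (((g : K) : V ≃ₗ[F] V) : Module.End F V) ≤ S := by
      rintro _ ⟨v, rfl⟩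
      have h6 : v ∈ S ⊔ perp Q S := by rw [hcompl.sup_eq_top]; trivial
      obtain ⟨w, hw, c, hc, rfl⟩ := Submodule.mem_sup.1 h6
      have h7 : ((g : K) : V ≃ₗ[F] V) c = c := (rs_eq_one hKU).1 g.2 c hc
      have h8 : ((((g : K) : V ≃ₗ[F] V) : Module.End F V) - 1) (w + c) = ((g : K) : V ≃ₗ[F] V) w - w := by
        rw [LinearMap.sub_apply]
        show ((g : K) : V ≃ₗ[F] V) (w + c) - (w + c) = _
        rw [map_add, h7]
        abel
      rw [h8]
      exact S.sub_mem (hK _ (g : K).2 w hw) hw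
    have h6 := Submodule.finrank_mono h5
    omega
  have hv : (Nat.card φ.range).factorization p = (Nat.card K).factorization p := by
    have h2 : (Nat.card N).factorization p + (Nat.card φ.range).factorization p = (Nat.card K).factorization p :=
      factorization_range φ p
    omega
  have hd : r ^ a ∣ Nat.card φ.range := by
    have h2 : Nat.card N * Nat.card φ.range = Nat.card K := card_ker_mul φ
    have h3 := D.dvd
    rw [← h2] at h3
    exact (Nat.Coprime.pow_left a ((Nat.Prime.coprime_iff_not_dvd D.pp.prime).2 hrN)).dvd_of_dvd_mul_left h3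
  have hlo := D.lo
  have hhi := D.hi
  have hpos := D.pos
  have hle : φ.range ≤ O (res Q (perp Q S)) := rs_range_le hKU D.le
  have hnd : Nondeg (res Q (perp Q S)) := nondeg_perp D.nd hS
  have hfr := finrank_perp D.nd S
  rw [D.dim] at hfr
  rcases h1 with h1 | h1
  · have h6 : finrank F (perp Q S) = 6 := by omega
    by_cases hP : IsPlus (res Q (perp Q S))
    · rcases (D.boxes.sixp hnd h6 hP hle D.pp D.big hd).1 with h | h <;> omega
    · rcases (D.boxes.sixm hnd h6 hP hle D.pp D.big hd).1 with h | h <;> omega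
  · have h5 : finrank F (perp Q S) = 5 := by omega
    rcases D.boxes.five hnd h5 hle D.pp D.big hd with h | h <;> omega

end Cfsg.Agent.H430.Om7
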